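import Groth.Agent.ParaF29.Pair
import Groth.Agent.ParaF29.Ops
import Groth.Agent.FEtFF.Hartogs
import Groth.Agent.CohExch.FlatBC0
import Groth.Agent.CAlgH3.FlatDepth
import Groth.Agent.PicLib.FlatTriv
import Groth.Agent.AmpleLib.GenLocus
import Groth.Agent.PicLib.LiftGen
import Groth.Agent.PicLib.CocycleGlue
import Groth.Agent.Et18.ConsColim
import Groth.Agent.EGA43.InjFibre.PullSections
import Groth.Agent.Coherent.PullUnit

/-!
# Extension of invertible modules across points of depth two descends along flat maps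
-/

set_option autoImplicit false
set_option linter.style.haveILetI false
set_option backward.isDefEq.respectTransparency.types false
set_option maxHeartbeats 1000000

universe u

open CategoryTheory CategoryTheory.Limits AlgebraicGeometry Opposite TopologicalSpace
open Groth.Agent.Coherent Groth.Agent.PicLib Groth.Agent.AmpleLib Groth.Agent.ParaF29

noncomputable section

namespace Groth.Agent.ExtFlat27

variable {X : Scheme.{u}}

/-- Functions extend uniquely across points of depth at least two. -/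
theorem hb_of_depth [IsLocallyNoetherian X] (U : X.Opens)
    (h : ∀ x : X, x ∉ U → (2 : ℕ∞) ≤ _root_.LocCoh.depth (X.presheaf.stalk x) (X.presheaf.stalk x)) : HB U := by
  have hinj : ∀ V : X.Opens, Function.Injective (res (inf_le_left : V ⊓ U ≤ V)) := fun V a b hab => by
    refine TopCat.Sheaf.eq_of_locally_eq' X.sheaf (fun W : {W : X.Opens // IsAffineOpen W ∧ W ≤ V} => W.1) V
      (fun W => homOfLE W.2.2) (fun z hz => ?_) a b fun W => ?_
    · obtain ⟨W, hW, hzW, hWV⟩ := exists_isAffineOpen_mem_and_subset hz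
      exact Opens.mem_iSup.2 ⟨⟨W, hW, hWV⟩, hzW⟩
    · refine (FEtFF.Hartogs.bijective_restrict U h W.2.1 rfl inf_le_left).1 ?_
      have h2 := congrArg (res (inf_le_inf_right U W.2.2)) hab
      rw [PicLib.res_res, PicLib.res_res] at h2
      show res inf_le_left (res W.2.2 a) = res inf_le_left (res W.2.2 b)
      rw [PicLib.res_res, PicLib.res_res]
      exact h2
  refine fun V => ⟨hinj V, fun x => ?_⟩
  choose t ht using fun W : {W : X.Opens // IsAffineOpen W ∧ W ≤ V} =>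
    (FEtFF.Hartogs.bijective_restrict U h W.2.1 rfl inf_le_left).2 (res (inf_le_inf_right U W.2.2) x)
  have hc : V ≤ ⨆ W : {W : X.Opens // IsAffineOpen W ∧ W ≤ V}, W.1 := fun z hz => by
    obtain ⟨W, hW, hzW, hWV⟩ := exists_isAffineOpen_mem_and_subset hz
    exact Opens.mem_iSup.2 ⟨⟨W, hW, hWV⟩, hzW⟩
  obtain ⟨a, ha, -⟩ := TopCat.Sheaf.existsUnique_gluing' X.sheaf (fun W : {W : X.Opens // IsAffineOpen W ∧ W ≤ V} => W.1) V (fun W => homOfLE W.2.2) hc t
    (fun i k => by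
      show res inf_le_left (t i) = res inf_le_right (t k)
      refine hinj _ ?_
      rw [PicLib.res_res, PicLib.res_res, ← PicLib.res_res inf_le_left (inf_le_inf_right U inf_le_left) (t i),
        ← PicLib.res_res inf_le_left (inf_le_inf_right U inf_le_right) (t k)]
      erw [ht, ht]
      exact (PicLib.res_res _ _ _).trans (PicLib.res_res _ _ _).symm)
  refine ⟨a, TopCat.Sheaf.eq_of_locally_eq' X.sheaf
    (fun W : {W : X.Opens // IsAffineOpen W ∧ W ≤ V} => W.1 ⊓ U) (V ⊓ U)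
    (fun W => homOfLE (inf_le_inf_right U W.2.2))
    (fun z hz => by
      obtain ⟨W, hW⟩ := Opens.mem_iSup.1 (hc hz.1)
      exact Opens.mem_iSup.2 ⟨W, hW, hz.2⟩) _ _ fun W => ?_⟩
  show res _ (res (inf_le_left : V ⊓ U ≤ V) a) = res _ x
  refine Eq.trans ?_ (ht W)
  show _ = res inf_le_left (t W)
  rw [PicLib.res_res, ← show res W.2.2 a = t W from ha W, PicLib.res_res]

/-- The depth does not drop along flat maps. -/
theorem two_le_depth_of_flat {Y : Scheme.{u}} [IsLocallyNoetherian X] [IsLocallyNoetherian Y] (ψ : Y ⟶ X) [Flat ψ]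
    (y : Y) (h : (2 : ℕ∞) ≤ _root_.LocCoh.depth (X.presheaf.stalk (ψ y)) (X.presheaf.stalk (ψ y))) :
    (2 : ℕ∞) ≤ _root_.LocCoh.depth (Y.presheaf.stalk y) (Y.presheaf.stalk y) := by
  letI := (ψ.stalkMap y).hom.toAlgebra
  haveI : Module.Flat (X.presheaf.stalk (ψ y)) (Y.presheaf.stalk y) := Flat.stalkMap ψ y
  haveI : IsLocalHom (algebraMap (X.presheaf.stalk (ψ y)) (Y.presheaf.stalk y)) :=
    inferInstanceAs (IsLocalHom (ψ.stalkMap y).hom)
  exact h.trans (le_self_add.trans (CAlgH3.depth_add_depth_fibre_le_self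
    (A := X.presheaf.stalk (ψ y)) (B := Y.presheaf.stalk y)))

theorem isUnit_germ_of_gen {Y : Scheme.{u}} {P : Y.Modules} {O : Y.Opens} {g : Γ(P, O)} (hg : IsGen P O g)
    (c : Γ(Y, O)) (b : Γ(P, O)) (h : IsGen P O (c • b)) : IsUnit c := by
  obtain ⟨r, hr⟩ := (h O le_rfl).2 g
  obtain ⟨a, ha⟩ := (hg O le_rfl).2 b
  simp only [resM_self] at hr ha
  refine IsUnit.of_mul_eq_one (a := c) (a * r) ((hg O le_rfl).1 ?_)
  show (c * (a * r)) • resM P le_rfl g = (1 : Γ(Y, O)) • resM P le_rfl g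
  rw [resM_self, one_smul]
  calc (c * (a * r)) • g = r • c • a • g := by rw [smul_smul, smul_smul]; congr 1; ring
    _ = g := by rw [ha, hr]

variable (U : X.Opens)

/-- A section generating after a flat pullback near `x'`. -/
theorem exists_section_gen {Y : Scheme.{u}} (ψ : Y ⟶ X) (N : X.Modules) [Coh.IsQCoh N]
    (hN : PicF.IsInvertible ((Scheme.Modules.pullback ψ).obj N)) (y : Y) :
    ∃ (W : X.Opens) (_ : IsAffineOpen W) (_ : ψ y ∈ W) (n : Γ(N, W)) (O : Y.Opens) (_ : y ∈ O) (hO : O ≤ ψ ⁻¹ᵁ W),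
      IsGen _ O (resM _ hO (pullSec ψ n)) := by
  obtain ⟨O₀, hyO₀, g, hg⟩ := exists_isGen hN y
  obtain ⟨W, hW, hyW, -⟩ := exists_isAffineOpen_mem_and_subset (x := ψ y) (U := (⊤ : X.Opens)) trivial
  obtain ⟨W', hW', hyW', hle⟩ := exists_isAffineOpen_mem_and_subset (x := y) (U := ψ ⁻¹ᵁ W ⊓ O₀) ⟨hyW, hyO₀⟩
  have e : W' ≤ ψ ⁻¹ᵁ W := fun z hz => (hle hz).1
  have hgW : IsGen _ W' (resM _ (fun z hz => (hle hz).2 : W' ≤ O₀) g) := hg.restrict _
  let coef : Γ((Scheme.Modules.pullback ψ).obj N, W') → Γ(Y, W') := fun z => hgW.coef le_rfl z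
  have hcoef : ∀ z, coef z • resM _ (fun z hz => (hle hz).2 : W' ≤ O₀) g = z := fun z => by
    have h := hgW.coef_spec le_rfl z
    rwa [resM_self] at h
  by_cases hex : ∃ n : Γ(N, W), IsUnit (Y.presheaf.germ W' y hyW' (coef (EGA43.InjFibre.pullMap ψ hW hW' e N n)))
  · obtain ⟨n, hn⟩ := hex
    refine ⟨W, hW, hyW, n, Y.basicOpen (coef (EGA43.InjFibre.pullMap ψ hW hW' e N n)), (Scheme.mem_basicOpen _ _ _ hyW').2 hn,
      (Y.basicOpen_le _).trans e, ?_⟩
    have hu := Y.toRingedSpace.isUnit_res_basicOpen (coef (EGA43.InjFibre.pullMap ψ hW hW' e N n))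
    have hb := (isGen_smul_iff hu).2 (hgW.restrict (Y.basicOpen_le (coef (EGA43.InjFibre.pullMap ψ hW hW' e N n))))
    have h := congrArg (resM _ (Y.basicOpen_le (coef (EGA43.InjFibre.pullMap ψ hW hW' e N n)))) (hcoef (EGA43.InjFibre.pullMap ψ hW hW' e N n))
    rw [resM_smul] at h
    erw [h] at hb
    rw [pullMap_eq_resM_pullSec] at hb ⊢
    try rw [resM_resM] at hb
    exact hb
  · exfalso
    push Not at hex
    letI := (ψ.appLE W W' e).hom.toAlgebra
    letI := Module.compHom Γ((Scheme.Modules.pullback ψ).obj N, W') (ψ.appLE W W' e).hom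
    haveI : IsScalarTower Γ(X, W) Γ(Y, W') Γ((Scheme.Modules.pullback ψ).obj N, W') :=
      IsScalarTower.of_algebraMap_smul fun _ _ => rfl
    obtain ⟨μ, hμ, hμn⟩ := EGA43.InjFibre.pullMap_isBaseChange ψ hW hW' e (M := N)
    have hadd : ∀ a b, coef (a + b) = coef a + coef b := fun a b => (hgW W' le_rfl).1 (by
      show _ • resM _ le_rfl _ = _ • resM _ le_rfl _
      rw [resM_self, add_smul, hcoef, hcoef, hcoef])
    have hsmul : ∀ (r : Γ(Y, W')) a, coef (r • a) = r * coef a := fun r a => (hgW W' le_rfl).1 (by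
      show _ • resM _ le_rfl _ = _ • resM _ le_rfl _
      rw [resM_self, mul_smul, hcoef, hcoef])
    have hall : ∀ z, ¬ IsUnit (Y.presheaf.germ W' y hyW' (coef z)) := fun z => by
      induction z using hμ.inductionOn with
      | zero =>
        rw [show coef 0 = 0 from (hgW W' le_rfl).1 (by
          show _ • resM _ le_rfl _ = _ • resM _ le_rfl _
          rw [resM_self, hcoef, zero_smul]), map_zero]
        exact not_isUnit_zero
      | tmul n => rw [hμn]; exact hex n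
      | smul r a ha =>
        rw [hsmul, map_mul]
        exact fun hu => ha (isUnit_of_mul_isUnit_right hu)
      | add a b ha hb =>
        rw [hadd, map_add]
        exact IsLocalRing.nonunits_add ha hb
    refine hall (resM _ (fun z hz => (hle hz).2 : W' ≤ O₀) g) ?_
    rw [show coef (resM _ (fun z hz => (hle hz).2 : W' ≤ O₀) g) = 1 from (hgW W' le_rfl).1 (by
      show _ • resM _ le_rfl _ = _ • resM _ le_rfl _
      rw [resM_self, hcoef, one_smul]), map_one]
    exact isUnit_one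

variable [IsLocallyNoetherian X]

/-- The direct image is invertible where some flat pullback is. -/
theorem exists_gen_push (hU : HB U) {L : (U : Scheme.{u}).Modules} (hL : PicF.IsInvertible L) {Y : Scheme.{u}}
    (ψ : Y ⟶ X) [Flat ψ] (y : Y)
    (hN : PicF.IsInvertible ((Scheme.Modules.pullback ψ).obj ((Scheme.Modules.pushforward U.ι).obj L))) :
    ∃ W : X.Opens, ψ y ∈ W ∧ ∃ n : Γ((Scheme.Modules.pushforward U.ι).obj L, W), IsGen _ W n := by
  haveI : Coh.IsQCoh L := isQCoh_of_isInvertible hL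
  haveI : Coh.IsQCoh ((Scheme.Modules.pushforward U.ι).obj L) := Coherent.isQCoh_push U.ι L
  let N := (Scheme.Modules.pushforward U.ι).obj L
  have hloc : ∀ w : X, w ∈ U → ∃ (O : X.Opens) (t : Γ(N, O)), w ∈ O ∧ O ≤ U ∧ IsGen N O t := by
    intro w hw
    obtain ⟨O, hwO, l, hl⟩ := exists_isGen hL (⟨w, hw⟩ : U)
    obtain ⟨t, ht⟩ := exists_isGen_of_restrict N U
      (isGen_app_iso ((asIso (Scheme.Modules.restrictAdjunction U.ι).counit).app L).symm hl)
    exact ⟨U.ι ''ᵁ O, t, ⟨⟨w, hw⟩, hwO, rfl⟩, by rintro _ ⟨z, -, rfl⟩; exact z.2, ht⟩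
  obtain ⟨W, hW, hxW, n, O', hyO', hO', hgen⟩ := exists_section_gen ψ N hN y
  haveI : IsNoetherianRing Γ(X, W) := IsLocallyNoetherian.component_noetherian ⟨W, hW⟩
  -- where the section generates
  let G : X.Opens := sSup {O | ∃ h : O ≤ W, O ≤ U ∧ IsGen N O (resM N h n)}
  have hgenz : ∀ z : X, z ∈ W → z ∈ U → z ⤳ ψ y → z ∈ G := by
    intro z hzW hzU hsp
    obtain ⟨z', hz', rfl⟩ := (Flat.generalizingMap ψ) hsp
    have hzO' : z' ∈ O' := hz'.mem_open O'.isOpen hyO'
    obtain ⟨O, t, hzO, hOU, ht⟩ := hloc (ψ z') hzU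
    have htW := ht.restrict (inf_le_left : O ⊓ W ≤ O)
    let c := htW.coef le_rfl (resM N (inf_le_right : O ⊓ W ≤ W) n)
    have hc : c • resM N (inf_le_left : O ⊓ W ≤ O) t = resM N (inf_le_right : O ⊓ W ≤ W) n := by
      have h := htW.coef_spec le_rfl (resM N (inf_le_right : O ⊓ W ≤ W) n)
      rwa [resM_self] at h
    let T : Y.Opens := O' ⊓ ψ ⁻¹ᵁ (O ⊓ W)
    have hT : z' ∈ T := ⟨hzO', hzO, hzW⟩
    obtain ⟨O₁, hzO₁, g, hg⟩ := exists_isGen hN z'
    let T' := T ⊓ O₁
    have hgT : IsGen _ T' (resM _ (inf_le_right : T' ≤ O₁) g) := hg.restrict _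
    have hu : IsUnit (PicLib.res (inf_le_left.trans inf_le_right : T' ≤ ψ ⁻¹ᵁ (O ⊓ W)) (ψ.app _ c)) := by
      refine isUnit_germ_of_gen hgT _
        (resM _ (inf_le_left.trans inf_le_right : T' ≤ ψ ⁻¹ᵁ (O ⊓ W)) (pullSec ψ (resM N (inf_le_left : O ⊓ W ≤ O) t))) ?_
      rw [← resM_smul, ← pullSec_smul, hc, ← resM_pullSec ψ, resM_resM]
      have := hgen.restrict (inf_le_left.trans inf_le_left : T' ≤ O')
      rwa [resM_resM] at this
    have hz : z' ∈ ψ ⁻¹ᵁ X.basicOpen c := by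
      rw [Scheme.preimage_basicOpen, Scheme.mem_basicOpen Y _ _ (show z' ∈ ψ ⁻¹ᵁ (O ⊓ W) from ⟨hzO, hzW⟩)]
      have h2 := hu.map (Y.presheaf.germ T' z' ⟨hT, hzO₁⟩).hom
      rwa [VarietyLib.StarGlue.germ_resO] at h2
    refine Opens.mem_sSup.2 ⟨X.basicOpen c, ⟨(X.basicOpen_le c).trans inf_le_right,
      ((X.basicOpen_le c).trans inf_le_left).trans hOU, ?_⟩, hz⟩
    have h := congrArg (resM N (X.basicOpen_le c)) hc
    rw [resM_smul, resM_resM, resM_resM] at h
    rw [← h]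
    exact (isGen_smul_iff (X.toRingedSpace.isUnit_res_basicOpen c)).2 (ht.restrict _)
  obtain ⟨W', hxW', hW'W, hW'⟩ : ∃ W' : X.Opens, ψ y ∈ W' ∧ W' ≤ W ∧ W' ⊓ U ≤ G := by
    haveI : NoetherianSpace W := noetherianSpace_of_isAffineOpen W hW
    let C : Set W := Subtype.val ⁻¹' ((U : Set X) \ (G : Set X))
    have hC : Topology.IsLocallyConstructible C := by
      have ho : ∀ S : Set W, IsOpen S → Topology.IsConstructible S := fun S hS =>
        IsRetrocompact.isConstructible hS fun T _ _ => NoetherianSpace.isCompact _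
      exact ((ho _ (U.isOpen.preimage continuous_subtype_val)).sdiff
        (ho _ (G.isOpen.preimage continuous_subtype_val))).isLocallyConstructible
    have hx : (⟨ψ y, hxW⟩ : W) ∉ closure C := fun hmem => by
      haveI : CompactSpace W := isCompact_iff_compactSpace.1 hW.isCompact
      haveI : QuasiSober (W : Scheme.{u}) := inferInstance
      obtain ⟨z, hz, hzx⟩ := H8ProCons.exists_specializes_of_mem_closure
        (X := (W : Scheme.{u})) (H8ProCons.isClosed_cons_of_isConstructible hC.isConstructible) hmem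
      exact hz.2 (hgenz z.1 z.2 hz.1 (hzx.map continuous_subtype_val))
    obtain ⟨O, hO, hO'⟩ := (Topology.IsInducing.subtypeVal (t := (W : Set X))).isOpen_iff.1
      (isClosed_closure (s := C)).isOpen_compl
    refine ⟨⟨O, hO⟩ ⊓ W, ⟨show ψ y ∈ O from (Set.ext_iff.1 hO' ⟨ψ y, hxW⟩).2 hx, hxW⟩, inf_le_right, ?_⟩
    rintro z ⟨⟨hzO, hzW⟩, hzU⟩
    by_contra hzG
    exact (Set.ext_iff.1 hO' ⟨z, hzW⟩).1 hzO (subset_closure ⟨hzU, hzG⟩)
  refine ⟨W', hxW', resM N hW'W n, fun V hV => ?_⟩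
  have hgU : IsGen N (W' ⊓ U) (resM N (inf_le_left.trans hW'W) n) := by
    refine isGen_of_cover (ι := {O : X.Opens // ∃ h : O ≤ W, O ≤ U ∧ IsGen N O (resM N h n)})
      (fun O => O.1 ⊓ (W' ⊓ U)) (fun O => inf_le_right) (fun z hz => ?_) fun O => ?_
    · obtain ⟨O, hO, hzO⟩ := Opens.mem_sSup.1 (hW' hz)
      exact Opens.mem_iSup.2 ⟨⟨O, hO⟩, hzO, hz⟩
    · obtain ⟨h, -, hg⟩ := O.2
      have h2 := hg.restrict (inf_le_left : O.1 ⊓ (W' ⊓ U) ≤ O.1)
      rw [resM_resM] at h2 ⊢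
      exact h2
  have hbij : Function.Bijective (resM N (inf_le_left : V ⊓ U ≤ V)) := by
    show Function.Bijective (resM L (U.ι.preimage_mono (inf_le_left : V ⊓ U ≤ V)))
    have key : ∀ {A B : (U : Scheme.{u}).Opens} (h : A ≤ B), B ≤ A → Function.Bijective (resM L h) := by
      intro A B h h'
      obtain rfl := le_antisymm h h'
      exact ⟨fun a b e => by rwa [resM_self, resM_self] at e, fun a => ⟨a, by rw [resM_self]⟩⟩
    exact key _ fun z hz => ⟨hz, z.2⟩
  refine (Function.Bijective.of_comp_iff' hbij _).1 ?_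
  have h1 := (hgU (V ⊓ U) (inf_le_inf_right U hV)).comp (hU V)
  convert h1 using 1
  funext r
  show resM N inf_le_left (r • resM N hV (resM N hW'W n)) = res inf_le_left r • resM N _ (resM N _ n)
  rw [resM_smul, resM_resM, resM_resM, resM_resM]

/-- An invertible module on `U` extends as soon as it does after flat maps covering the complement. -/
theorem exists_extension (hU : HB U) {L : (U : Scheme.{u}).Modules} (hL : PicF.IsInvertible L)
    (h : ∀ x : X, x ∉ U → ∃ (Y : Scheme.{u}) (ψ : Y ⟶ X) (y : Y), Flat ψ ∧ ψ y = x ∧ HB (ψ ⁻¹ᵁ U) ∧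
      ∃ M' : Y.Modules, PicF.IsInvertible M' ∧
        Nonempty ((Scheme.Modules.pullback (ψ ⁻¹ᵁ U).ι).obj M' ≅ (Scheme.Modules.pullback (ψ ∣_ U)).obj L)) :
    ∃ M : X.Modules, PicF.IsInvertible M ∧ Nonempty ((Scheme.Modules.pullback U.ι).obj M ≅ L) := by
  refine ⟨(Scheme.Modules.pushforward U.ι).obj L,
    isInvertible_of_gens (L := (Scheme.Modules.pushforward U.ι).obj L) fun x => ?_,
    ⟨((Scheme.Modules.restrictFunctorIsoPullback U.ι).app _).symm ≪≫
      (asIso (Scheme.Modules.restrictAdjunction U.ι).counit).app L⟩⟩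
  by_cases hx : x ∈ U
  · obtain ⟨O, hxO, l, hl⟩ := exists_isGen hL (⟨x, hx⟩ : U)
    obtain ⟨t, ht⟩ := exists_isGen_of_restrict ((Scheme.Modules.pushforward U.ι).obj L) U
      (isGen_app_iso ((asIso (Scheme.Modules.restrictAdjunction U.ι).counit).app L).symm hl)
    exact ⟨U.ι ''ᵁ O, ⟨⟨x, hx⟩, hxO, rfl⟩, t, ht⟩
  · obtain ⟨Y, ψ, y, hψ, rfl, hHB, M', hM', ⟨e⟩⟩ := h x hx
    haveI := hψ
    haveI : Coh.IsQCoh L := isQCoh_of_isInvertible hL
    haveI := CohExch.isIso_bc0_of_flat_morphism (f := U.ι) (g := ψ) (g' := ψ ∣_ U) (f' := (ψ ⁻¹ᵁ U).ι)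
      (isPullback_morphismRestrict ψ U) L
    obtain ⟨e'⟩ := nonempty_iso_pushforward (ψ ⁻¹ᵁ U).ι (by rw [Scheme.Opens.opensRange_ι]; exact hHB) hM'
      ((Scheme.Modules.restrictFunctorIsoPullback (ψ ⁻¹ᵁ U).ι).app M' ≪≫ e)
    obtain ⟨W, hW, n, hn⟩ := exists_gen_push U hU hL ψ y
      (ParaF29.isInvertible_of_iso (e' ≪≫ (asIso (CohBC.bc0 U.ι ψ (ψ ⁻¹ᵁ U).ι (ψ ∣_ U)
        (isPullback_morphismRestrict ψ U).w L)).symm) hM')
    exact ⟨W, hW, n, hn⟩

end Groth.Agent.ExtFlat27
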